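import Cfsg.Agent.Lib.Spor.MonsterLocal.Base

/-!
The joint centraliser of two commuting conjugates maps onto the stabiliser of the base class; elements
of odd prime order in standard position.
-/

set_option autoImplicit false
set_option maxRecDepth 100000

namespace Cfsg.Agent.Spor.MonsterLocal

open Cfsg Cfsg.Agent.Spor.MonsterFusion
open scoped Pointwise

local notation "Zv" => GolayPt → ℤ
set_option quotPrecheck false in
local notation "Lv" => ↥leechLattice

theorem card_classStab1 : Nat.card (classStab1 (e8 none)) = 2048 * 244823040 := by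
  haveI := co0_finite
  let f := (QuotientGroup.mk' (Subgroup.center ↥Co0)).subgroupMap (classStab (e8 none))
  have h1 := Subgroup.card_eq_card_quotient_mul_card_subgroup f.ker
  have hc : Nat.card (classStab (e8 none)) = 4096 * 244823040 := by rw [classStab_e8, card_monoSub]
  rw [Nat.card_congr (QuotientGroup.quotientKerEquivOfSurjective f (MonoidHom.subgroupMap_surjective _ _)).toEquiv,
    hc] at h1
  have h2 : Nat.card f.ker = 2 := by
    rw [← card_center]
    exact Nat.card_congr ⟨fun k => ⟨((k : classStab (e8 none)) : ↥Co0),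
        (QuotientGroup.eq_one_iff _).1 (congrArg Subtype.val k.2)⟩,
      fun c => ⟨⟨(c : ↥Co0), center_le_classStab _ c.2⟩, Subtype.ext ((QuotientGroup.eq_one_iff _).2 c.2)⟩,
      fun _ => rfl, fun _ => rfl⟩
  rw [h2] at h1
  exact Nat.eq_of_mul_eq_mul_right two_pos (h1.symm.trans (by norm_num))

variable {G : Type*} [Group G] [Finite G] {z s : G} {Q : Subgroup (Subgroup.centralizer ({z} : Set G))} [Q.Normal]

theorem joint_mem (c : Subgroup.centralizer ({z, s} : Set G)) : (c : G) ∈ Subgroup.centralizer ({z} : Set G) :=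
  Subgroup.centralizer_le (by simp) c.2

/-- the joint centraliser inside the involution centraliser -/
def jIncl (z s : G) : ↥(Subgroup.centralizer ({z, s} : Set G)) →* ↥(Subgroup.centralizer ({z} : Set G)) :=
  MonoidHom.mk' (fun c => ⟨c, joint_mem c⟩) fun _ _ => rfl

/-- two commuting conjugates in standard position -/
structure Joint (z s : G) (Q : Subgroup (Subgroup.centralizer ({z} : Set G))) [Q.Normal]
    (e : (Subgroup.centralizer ({z} : Set G)) ⧸ Q ≃* Cfsg.Spor.Co1) (ψ : Lv → Q ⧸ Subgroup.center Q) (x0 : Q) : Prop where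
  hs : Setting z Q e ψ
  hx0 : ψ (e8 none) = QuotientGroup.mk x0
  hxs : ((x0 : Subgroup.centralizer ({z} : Set G)) : G) = s
  range : ((proj e).comp (jIncl z s)).range = classStab1 (e8 none)
  ker : IsPGroup 2 ((proj e).comp (jIncl z s)).ker

theorem exists_joint (hM : IsOfMonsterType z Q) {s : G}
    (hsQ : ∃ hsc : s ∈ Subgroup.centralizer ({z} : Set G), (⟨s, hsc⟩ : Subgroup.centralizer ({z} : Set G)) ∈ Q)
    (hs : IsConj z s) (hs1 : s ≠ z) :
    ∃ (e : (Subgroup.centralizer ({z} : Set G)) ⧸ Q ≃* Cfsg.Spor.Co1) (ψ : Lv → Q ⧸ Subgroup.center Q) (x0 : Q),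
      Joint z s Q e ψ x0 := by
  classical
  haveI := co0_finite
  obtain ⟨hS, e1, ψ1, hψ1⟩ := hM
  have S1 : Setting z Q e1 ψ1 := ⟨hS, hψ1⟩
  obtain ⟨hsc, hsm⟩ := hsQ
  set x0 : Q := ⟨⟨s, hsc⟩, hsm⟩ with hx0d
  obtain ⟨v, hv, hψv⟩ := S1.conj_type (x := x0) hs hs1
  obtain ⟨g0, u, hu, hg0⟩ := class_transitive (e8 none) v (e8_norm none) hv
  have S2 := S1.twist g0
  set e2 := e1.trans (MulAut.conj (QuotientGroup.mk' (Subgroup.center ↥Co0) g0)⁻¹) with he2
  set ψ2 : Lv → Q ⧸ Subgroup.center Q := fun x => ψ1 (g0 • x) with hψ2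
  have hx0 : ψ2 (e8 none) = QuotientGroup.mk x0 := by
    show ψ1 (g0 • e8 none) = _
    rw [S1.coset_eq ⟨u, hu, hg0⟩, hψv]
  have hx0c := S2.noncentral hx0 (Or.inr (e8_norm none))
  set C2 := Subgroup.centralizer ({z, s} : Set G) with hC2
  have hC2z : ∀ c : C2, (c : G) ∈ Subgroup.centralizer ({z} : Set G) := fun c =>
    Subgroup.centralizer_le (by simp) c.2
  have hC2s : ∀ c : C2, (c : G) * s = s * c := fun c =>
    (Subgroup.mem_centralizer_iff.1 c.2 s (by simp)).symm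
  let ρ : C2 →* Cfsg.Spor.Co1 := (proj e2).comp (jIncl z s)
  have hρ : ρ.range = classStab1 (e8 none) := by
    refine le_antisymm ?_ ?_
    · rintro _ ⟨c, rfl⟩
      refine S2.stab_image hx0 ?_
      rw [mul_inv_eq_iff_eq_mul]
      exact Subtype.ext (hC2s c)
    · rintro _ ⟨g, hg, rfl⟩
      obtain ⟨h, hh, hhx⟩ := S2.conj_to hx0 hx0 hx0c (g := g) hg
      refine ⟨⟨h, ?_⟩, hh⟩
      rw [hC2, Subgroup.mem_centralizer_iff]
      intro y hy
      rcases hy with rfl | rfl
      · exact (Subgroup.mem_centralizer_singleton_iff.1 h.2).symm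
      · rw [mul_inv_eq_iff_eq_mul] at hhx
        exact (congrArg Subtype.val hhx).symm
  have hker : IsPGroup 2 ρ.ker := by
    haveI : Fact (Nat.Prime 2) := ⟨Nat.prime_two⟩
    refine (IsPGroup.of_card (n := 2 * 12 + 1) S2.hS.2.2.2.1).of_injective
      (MonoidHom.mk' (fun k => (⟨⟨((k : C2) : G), hC2z k⟩, (proj_one (e := e2) _).1 k.2⟩ : Q)) fun _ _ => rfl) ?_
    intro k k' h
    exact Subtype.ext (Subtype.ext (congrArg (fun q : Q => ((q : Subgroup.centralizer ({z} : Set G)) : G)) h))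
  exact ⟨e2, ψ2, x0, S2, hx0, rfl, hρ, hker⟩

theorem Joint.comm {e : (Subgroup.centralizer ({z} : Set G)) ⧸ Q ≃* Cfsg.Spor.Co1} {ψ : Lv → Q ⧸ Subgroup.center Q}
    {x0 : Q} (J : Joint z s Q e ψ x0) (c : Subgroup.centralizer ({z, s} : Set G)) :
    jIncl z s c * (x0 : Subgroup.centralizer ({z} : Set G)) = x0 * jIncl z s c := Subtype.ext (by
  simp only [Subgroup.coe_mul, J.hxs]
  exact (Subgroup.mem_centralizer_iff.1 c.2 s (by simp)).symm)

theorem Joint.card_fac {e : (Subgroup.centralizer ({z} : Set G)) ⧸ Q ≃* Cfsg.Spor.Co1}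
    {ψ : Lv → Q ⧸ Subgroup.center Q} {x0 : Q} (J : Joint z s Q e ψ x0) {p : ℕ} (hp : p.Prime) (hodd : p % 2 = 1) :
    (Nat.card ↥(Subgroup.centralizer ({z, s} : Set G))).factorization p =
      (2048 * 244823040 : ℕ).factorization p := by
  haveI : Fact (Nat.Prime 2) := ⟨Nat.prime_two⟩
  obtain ⟨n, hn⟩ := IsPGroup.iff_card.1 J.ker
  rw [Subgroup.card_eq_card_quotient_mul_card_subgroup ((proj e).comp (jIncl z s)).ker,
    Nat.card_congr (QuotientGroup.quotientKerEquivRange _).toEquiv, J.range, card_classStab1, hn,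
    fac_mul_two hp hodd (by norm_num)]

theorem Joint.frame {e : (Subgroup.centralizer ({z} : Set G)) ⧸ Q ≃* Cfsg.Spor.Co1}
    {ψ : Lv → Q ⧸ Subgroup.center Q} {x0 : Q} (J : Joint z s Q e ψ x0) {D : CoLocal.Dat} (O : D.Ok)
    (c0 : Subgroup.centralizer ({z, s} : Set G)) (hc0 : c0 ^ D.p = 1) {t : Cfsg.Spor.Co1}
    (ht : t ∈ classStab1 (e8 none)) {j : ℤ} (hc : t * proj e (jIncl z s c0) ^ j * t⁻¹ = O.beta) :
    ∃ (e' : (Subgroup.centralizer ({z} : Set G)) ⧸ Q ≃* Cfsg.Spor.Co1) (ψ' : Lv → Q ⧸ Subgroup.center Q)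
      (b : Subgroup.centralizer ({z} : Set G)),
      Frame O z Q e' ψ' b x0 ∧ Subgroup.zpowers (b : G) = Subgroup.zpowers (c0 : G) := by
  haveI : Fact D.p.Prime := ⟨O.fix.prime⟩
  obtain ⟨g1, hg1, hg1e⟩ : ∃ g1 ∈ classStab (e8 none),
      QuotientGroup.mk' (Subgroup.center ↥Co0) g1 = t⁻¹ := by
    obtain ⟨g, hg, hge⟩ := (inv_mem ht : t⁻¹ ∈ classStab1 (e8 none))
    exact ⟨g, hg, hge⟩
  have hc0' : (c0 : G) ^ D.p = 1 := by rw [← SubmonoidClass.coe_pow, hc0]; rfl
  refine ⟨_, _, jIncl z s c0 ^ j, ⟨J.hs.twist g1, ?_, ?_, ?_, ?_⟩, ?_⟩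
  · rw [← zpow_natCast, ← zpow_mul, mul_comm, zpow_mul, zpow_natCast, ← map_pow, hc0, map_one, one_zpow]
  · show MulAut.conj (QuotientGroup.mk' (Subgroup.center ↥Co0) g1)⁻¹ (proj e (jIncl z s c0 ^ j)) = _
    rw [hg1e, inv_inv, map_zpow (proj e)]
    exact hc
  · show ψ (g1 • e8 none) = _
    rw [J.hs.coset_eq (mem_classStab.1 hg1), J.hx0]
  · exact (Commute.zpow_left (J.comm c0) j).eq
  · have hb : ((jIncl z s c0 ^ j : Subgroup.centralizer ({z} : Set G)) : G) = (c0 : G) ^ j := by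
      rw [SubgroupClass.coe_zpow]; rfl
    rw [hb]
    have hbne : (c0 : G) ^ j ≠ 1 := by
      intro h
      have h1 : jIncl z s c0 ^ j = 1 := Subtype.ext (by rw [hb, h]; rfl)
      rw [← map_zpow, h1, map_one, mul_one, mul_inv_cancel] at hc
      have := O.orderOf_beta
      rw [← hc, orderOf_one] at this
      exact O.fix.prime.one_lt.ne this
    have hc0ne : (c0 : G) ≠ 1 := fun h => hbne (by rw [h, one_zpow])
    refine Subgroup.eq_of_le_of_card_ge (Subgroup.zpowers_le.2 (Subgroup.zpow_mem_zpowers _ _)) ?_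
    rw [Nat.card_zpowers, Nat.card_zpowers, orderOf_eq_prime hc0' hc0ne,
      orderOf_eq_prime (p := D.p) ?_ hbne]
    rw [← zpow_natCast, ← zpow_mul, mul_comm, zpow_mul, zpow_natCast, hc0', one_zpow]

end Cfsg.Agent.Spor.MonsterLocal
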