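import Cfsg.Agent.Lib.Spor.MonsterLocal.Lifts
import Cfsg.Agent.Lib.Spor.MonsterSevenBase
import Cfsg.Agent.Lib.Spor.CoLocal.Main

/-!
An element of odd prime order with eight cycles in standard position in a group of Monster type, and
fusion inside its centraliser.
-/

set_option autoImplicit false
set_option maxRecDepth 100000

namespace Cfsg.Agent.Spor.MonsterLocal

open Cfsg Cfsg.Agent.Spor.MonsterFusion
open MonsterSeven (KS mem_KS val_mem_KS zz z_comm_KS z_in_KS KS_comm KS_sq KS_flip KS_normal KS_two_power flip_fixed)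
open scoped Pointwise

local notation "Zv" => GolayPt → ℤ
set_option quotPrecheck false in
local notation "Lv" => ↥leechLattice

variable {G : Type*} [Group G] [Finite G] {z : G} {Q : Subgroup (Subgroup.centralizer ({z} : Set G))} [Q.Normal]
  {e : (Subgroup.centralizer ({z} : Set G)) ⧸ Q ≃* Cfsg.Spor.Co1} {ψ : Lv → Q ⧸ Subgroup.center Q}

theorem KS_odd_eq_one' {p : ℕ} (hp : p % 2 = 1) (S : Setting z Q e ψ) {u : G} (hu : u ∈ KS Q) (h : u ^ p = 1) :
    u = 1 := by
  have h4 := KS_two_power S hu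
  rw [← orderOf_eq_one_iff]
  refine Nat.dvd_one.1 ?_
  have hg : Nat.gcd p (2 ^ 2) = 1 := Nat.Coprime.pow_right 2 (Nat.coprime_two_right.2 (Nat.odd_iff.2 hp))
  rw [← hg]
  exact Nat.dvd_gcd (orderOf_dvd_of_pow_eq_one h) (orderOf_dvd_of_pow_eq_one h4)

/-- standard position -/
structure Frame {D : CoLocal.Dat} (O : D.Ok) (z : G) (Q : Subgroup (Subgroup.centralizer ({z} : Set G))) [Q.Normal]
    (e : (Subgroup.centralizer ({z} : Set G)) ⧸ Q ≃* Cfsg.Spor.Co1) (ψ : Lv → Q ⧸ Subgroup.center Q)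
    (b : Subgroup.centralizer ({z} : Set G)) (x0 : Q) : Prop where
  hs : Setting z Q e ψ
  hbp : b ^ D.p = 1
  hpb : proj e b = O.beta
  hx0 : ψ (e8 none) = QuotientGroup.mk x0
  hbx : b * (x0 : Subgroup.centralizer ({z} : Set G)) = x0 * b

variable {D : CoLocal.Dat} {O : D.Ok} {b : Subgroup.centralizer ({z} : Set G)} {x0 : Q}

theorem Frame.x0_conj (F : Frame O z Q e ψ b x0) :
    IsConj z (((x0 : Subgroup.centralizer ({z} : Set G))) : G) ∧ (((x0 : Subgroup.centralizer ({z} : Set G))) : G) ≠ z :=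
  (F.hs.conj_iff x0).2 ⟨e8 none, e8_norm none, F.hx0⟩

theorem Frame.b_pow (F : Frame O z Q e ψ b x0) : (b : G) ^ D.p = 1 := by
  rw [← SubmonoidClass.coe_pow, F.hbp]; rfl

theorem Frame.b_z (F : Frame O z Q e ψ b x0) : (b : G) * z = z * b := Subgroup.mem_centralizer_singleton_iff.1 b.2

theorem Frame.b_ne (F : Frame O z Q e ψ b x0) : (b : G) ≠ 1 := by
  intro h
  have h1 := F.hpb
  rw [show b = 1 from Subtype.ext h, map_one] at h1
  have := O.orderOf_beta
  rw [← h1, orderOf_one] at this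
  exact O.fix.prime.one_lt.ne this

theorem Frame.orderOf_b (F : Frame O z Q e ψ b x0) : orderOf (b : G) = D.p := by
  haveI : Fact D.p.Prime := ⟨O.fix.prime⟩
  exact orderOf_eq_prime F.b_pow F.b_ne

theorem Frame.KS_meet (F : Frame O z Q e ψ b x0) {u : G} (hu : u ∈ KS Q) (hz : u ∈ Subgroup.zpowers (b : G)) : u = 1 := by
  refine KS_odd_eq_one' O.fix.odd F.hs hu ?_
  obtain ⟨k, rfl⟩ := Subgroup.mem_zpowers_iff.1 hz
  rw [← zpow_natCast, ← zpow_mul, mul_comm, zpow_mul, zpow_natCast, F.b_pow, one_zpow]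

/-- fusion of the conjugates inside the centraliser of the element -/
theorem Frame.fuse (F : Frame O z Q e ψ b x0) {x : G} (hx : x ∈ KS Q) (hc : IsConj z x) (hne : x ≠ z)
    (hbx : (b : G) * x = x * b) : ∃ m : G, (b : G) * m = m * b ∧ m * z * m⁻¹ = x := by
  have S := F.hs
  haveI : Fact (Nat.Prime 2) := ⟨Nat.prime_two⟩
  obtain ⟨g, hg⟩ := isConj_iff.1 hc
  obtain ⟨p, rfl⟩ := mem_KS.1 hx
  set x : G := ((p : Subgroup.centralizer ({z} : Set G)) : G) with hxdef
  have hcard := S.meet_card p hg hne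
  set K' := (KS Q).map (MulAut.conj g).toMonoidHom with hK'
  have hK'mem : ∀ u, u ∈ K' ↔ g⁻¹ * u * g ∈ KS Q := fun u => by
    constructor
    · rintro ⟨w, hw, rfl⟩
      show g⁻¹ * (g * w * g⁻¹) * g ∈ KS Q
      rwa [show g⁻¹ * (g * w * g⁻¹) * g = w by group]
    · intro h
      exact ⟨_, h, by show g * (g⁻¹ * u * g) * g⁻¹ = u; group⟩
  have hx1 : x ≠ 1 := fun h => S.z_ne (by
    rw [show z = g⁻¹ * (g * z * g⁻¹) * g by group, hg, h]; group)
  -- the first involution lies in the second group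
  set φ : Q →* G := (Subgroup.centralizer ({z} : Set G)).subtype.comp Q.subtype with hφ
  have hφi : Function.Injective φ := (Subgroup.subtype_injective _).comp (Subgroup.subtype_injective Q)
  set A := (KS Q ⊓ K').comap φ with hA
  have hAcard : Nat.card A = 2 ^ 13 := by
    rw [← hcard, Nat.card_congr (Subgroup.equivMapOfInjective A φ hφi).toEquiv]
    congr 1
    rw [hA, Subgroup.map_comap_eq, hφ, MonoidHom.range_comp, Subgroup.range_subtype]
    exact congrArg (fun H : Subgroup G => ↥H) (inf_eq_right.2 (inf_le_left : KS Q ⊓ K' ≤ KS Q))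
  have hAcomm : ∀ u ∈ A, ∀ v ∈ A, u * v = v * u := by
    intro u hu v hv
    rw [hA, Subgroup.mem_comap, Subgroup.mem_inf] at hu hv
    apply hφi
    rw [map_mul, map_mul]
    rcases KS_comm S _ hu.1 _ hv.1 with h | h
    · rw [mul_inv_eq_one, mul_inv_eq_iff_eq_mul] at h; exact h
    · exfalso
      rcases KS_comm S _ ((hK'mem _).1 hu.2) _ ((hK'mem _).1 hv.2) with h' | h'
      · refine S.z_ne (h.symm.trans ?_)
        calc φ u * φ v * (φ u)⁻¹ * (φ v)⁻¹
            = g * (g⁻¹ * φ u * g * (g⁻¹ * φ v * g) * (g⁻¹ * φ u * g)⁻¹ * (g⁻¹ * φ v * g)⁻¹) * g⁻¹ := by group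
          _ = 1 := by rw [h']; group
      · refine hne (Eq.trans ?_ h)
        calc x = g * z * g⁻¹ := hg.symm
          _ = g * (g⁻¹ * φ u * g * (g⁻¹ * φ v * g) * (g⁻¹ * φ u * g)⁻¹ * (g⁻¹ * φ v * g)⁻¹) * g⁻¹ := by rw [h']
          _ = φ u * φ v * (φ u)⁻¹ * (φ v)⁻¹ := by group
  have hzK' : z ∈ K' := by
    have hB : IsMulCommutative ↥(A ⊔ Subgroup.center Q) := ⟨⟨fun u v => Subtype.ext (by
      obtain ⟨a, ha, c, hc, hu⟩ := Subgroup.mem_sup_of_normal_right.1 u.2
      obtain ⟨a', ha', c', hc', hv⟩ := Subgroup.mem_sup_of_normal_right.1 v.2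
      rw [Subgroup.coe_mul, Subgroup.coe_mul, ← hu, ← hv]
      calc a * c * (a' * c') = a * (c * a') * c' := by group
        _ = a * (a' * c) * c' := by rw [← Subgroup.mem_center_iff.1 hc a']
        _ = a * a' * (c * c') := by group
        _ = a' * a * (c' * c) := by rw [hAcomm a ha a' ha', Subgroup.mem_center_iff.1 hc' c]
        _ = a' * (a * c') * c := by group
        _ = a' * (c' * a) * c := by rw [Subgroup.mem_center_iff.1 hc' a]
        _ = _ := by group)⟩⟩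
    have heq := Subgroup.eq_of_le_of_card_ge (le_sup_left (a := A) (b := Subgroup.center Q))
      (by rw [hAcard]; exact abelian_le S hB)
    have hz : (⟨zC z, z_mem e⟩ : Q) ∈ A :=
      heq ▸ le_sup_right (a := A) ((S.center_iff _).2 (Or.inr rfl))
    rw [hA, Subgroup.mem_comap, Subgroup.mem_inf] at hz
    exact hz.2
  -- flips
  have hx' : ∀ u ∈ K', u * x = x * u := by
    intro u hu
    have h := z_comm_KS ((hK'mem u).1 hu)
    rw [← hg]
    calc u * (g * z * g⁻¹) = g * ((g⁻¹ * u * g) * z) * g⁻¹ := by group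
      _ = g * (z * (g⁻¹ * u * g)) * g⁻¹ := by rw [h]
      _ = _ := by group
  obtain ⟨y0, hy0, hy0z⟩ : ∃ y ∈ K', y * z * y⁻¹ = z * x := by
    obtain ⟨w, hw, hwz⟩ := KS_flip S ((hK'mem z).1 hzK')
      (fun h => S.z_ne (by rw [show z = g * (g⁻¹ * z * g) * g⁻¹ by group, h]; group))
      (fun h => hne (by rw [← hg]; conv_lhs => rw [← h]
                        group))
    refine ⟨g * w * g⁻¹, ⟨w, hw, rfl⟩, ?_⟩
    calc g * w * g⁻¹ * z * (g * w * g⁻¹)⁻¹ = g * (w * (g⁻¹ * z * g) * w⁻¹) * g⁻¹ := by group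
      _ = g * (g⁻¹ * z * g * z) * g⁻¹ := by rw [hwz]
      _ = z * (g * z * g⁻¹) := by group
      _ = z * x := by rw [hg]
  have hcK' : ∀ u ∈ K', ∀ v ∈ K', u * v * u⁻¹ * v⁻¹ = 1 ∨ u * v * u⁻¹ * v⁻¹ = x := by
    intro u hu v hv
    rcases KS_comm S _ ((hK'mem u).1 hu) _ ((hK'mem v).1 hv) with h | h
    · left
      calc u * v * u⁻¹ * v⁻¹ = g * (g⁻¹ * u * g * (g⁻¹ * v * g) * (g⁻¹ * u * g)⁻¹ * (g⁻¹ * v * g)⁻¹) * g⁻¹ := by group
        _ = 1 := by rw [h]; group
    · right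
      calc u * v * u⁻¹ * v⁻¹ = g * (g⁻¹ * u * g * (g⁻¹ * v * g) * (g⁻¹ * u * g)⁻¹ * (g⁻¹ * v * g)⁻¹) * g⁻¹ := by group
        _ = x := by rw [h, hg]
  have hbK' : ∀ u ∈ K', (b : G) * u * (b : G)⁻¹ ∈ K' := by
    intro u hu
    rw [hK'mem]
    have hc' : g⁻¹ * (b : G) * g * z = z * (g⁻¹ * (b : G) * g) := by
      calc g⁻¹ * (b : G) * g * z = g⁻¹ * ((b : G) * (g * z * g⁻¹)) * g := by group
        _ = g⁻¹ * (g * z * g⁻¹ * (b : G)) * g := by rw [hg, hbx]
        _ = _ := by group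
    have := KS_normal hc' ((hK'mem u).1 hu)
    rwa [show g⁻¹ * (b : G) * g * (g⁻¹ * u * g) * (g⁻¹ * (b : G) * g)⁻¹ = g⁻¹ * ((b : G) * u * (b : G)⁻¹) * g by group]
      at this
  have hxx : x * x = 1 := by
    rw [← hg, show g * z * g⁻¹ * (g * z * g⁻¹) = g * (z * z) * g⁻¹ by group, zz S]; group
  obtain ⟨y, hy, hby, hyz⟩ := flip_fixed (m := D.p) (Nat.odd_iff.2 O.fix.odd) F.b_pow hxx hcK' hx' hbK' hbx F.b_z hy0 hy0z
  obtain ⟨q0, hq0, hq0x⟩ := KS_flip S hx hx1 hne
  obtain ⟨q, hq, hbq, hqx⟩ := flip_fixed (m := D.p) (Nat.odd_iff.2 O.fix.odd) F.b_pow (zz S) (KS_comm S) (fun u hu => z_comm_KS hu)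
    (fun u hu => KS_normal F.b_z hu) F.b_z hbx hq0 hq0x
  refine ⟨q * y, by rw [← mul_assoc, hbq, mul_assoc, hby, ← mul_assoc], ?_⟩
  calc q * y * z * (q * y)⁻¹ = q * (y * z * y⁻¹) * q⁻¹ := by group
    _ = q * (z * x) * q⁻¹ := by rw [hyz]
    _ = (q * z * q⁻¹) * (q * x * q⁻¹) := by group
    _ = z * (x * z) := by rw [hqx, z_comm_KS hq, mul_inv_cancel_right]
    _ = z * (z * x) := by rw [z_comm_KS hx]
    _ = x := by rw [← mul_assoc, zz S, one_mul]

/-- an element acting on the section as a power lifts to one acting so on the element -/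
theorem Frame.lift_norm (F : Frame O z Q e ψ b x0) {a : Cfsg.Spor.Co1} {i : ℕ}
    (h : a * O.beta = O.beta ^ i * a) :
    ∃ h' : Subgroup.centralizer ({z} : Set G), proj e h' = a ∧ h' * b = b ^ i * h' := by
  classical
  haveI : Fact D.p.Prime := ⟨O.fix.prime⟩
  have S := F.hs
  obtain ⟨h0, hh0⟩ := proj_surj (e := e) a
  set P := (Subgroup.zpowers O.beta).comap (proj e) with hP
  have hbP : b ∈ P := by rw [hP, Subgroup.mem_comap, F.hpb]; exact Subgroup.mem_zpowers _
  set x := h0 * b * h0⁻¹ with hx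
  have hpx : proj e x = O.beta ^ i := by
    rw [hx, map_mul, map_mul, map_inv, hh0, F.hpb, h, mul_inv_cancel_right]
  have hxP : x ∈ P := by rw [hP, Subgroup.mem_comap, hpx]; exact Subgroup.npow_mem_zpowers _ _
  have hob : orderOf b = D.p := by rw [← Subgroup.orderOf_coe]; exact F.orderOf_b
  have hox : orderOf x = D.p := by
    rw [hx, show h0 * b * h0⁻¹ = MulAut.conj h0 b from rfl, MulEquiv.orderOf_eq, hob]
  have hPcard : Nat.card P = D.p * Nat.card Q := by
    let f : P →* ↥(Subgroup.zpowers O.beta) := ((proj e).comp P.subtype).codRestrict _ fun p => p.2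
    have e1 := Subgroup.card_eq_card_quotient_mul_card_subgroup f.ker
    have hsurj : Function.Surjective f := fun y => by
      obtain ⟨p, hp⟩ := proj_surj (e := e) (y : Cfsg.Spor.Co1)
      exact ⟨⟨p, by rw [hP, Subgroup.mem_comap, hp]; exact y.2⟩, Subtype.ext hp⟩
    rw [Nat.card_congr (QuotientGroup.quotientKerEquivOfSurjective f hsurj).toEquiv, Nat.card_zpowers,
      O.orderOf_beta] at e1
    rw [e1]
    congr 1
    exact Nat.card_congr ⟨fun k => ⟨((k : P) : Subgroup.centralizer ({z} : Set G)),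
        (proj_one (e := e) _).1 (congrArg Subtype.val k.2)⟩,
      fun q => ⟨⟨q, by rw [hP, Subgroup.mem_comap, (proj_one (e := e) _).2 q.2]; exact one_mem _⟩,
        Subtype.ext ((proj_one (e := e) _).2 q.2)⟩, fun _ => rfl, fun _ => rfl⟩
  have hf : (Nat.card P).factorization D.p = 1 := by
    rw [hPcard, S.hS.2.2.2.1, fac_mul_two O.fix.prime O.fix.odd O.fix.prime.ne_zero,
      Nat.Prime.factorization_self O.fix.prime]
  have hc : ∀ u : Subgroup.centralizer ({z} : Set G), ∀ hu : u ∈ P, orderOf u = D.p →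
      Nat.card (Subgroup.zpowers (⟨u, hu⟩ : P)) = D.p := fun u hu ho => by
    rw [Nat.card_zpowers, ← Subgroup.orderOf_coe]; exact ho
  let Sb := Sylow.ofCard (Subgroup.zpowers (⟨b, hbP⟩ : P)) (p := D.p) (by rw [hc b hbP hob, hf, pow_one])
  let Sx := Sylow.ofCard (Subgroup.zpowers (⟨x, hxP⟩ : P)) (p := D.p) (by rw [hc x hxP hox, hf, pow_one])
  obtain ⟨k, hk⟩ := MulAction.exists_smul_eq P Sx Sb
  have hk' := congrArg (fun T : Sylow D.p P => (T : Subgroup P)) hk
  have hmem : k * ⟨x, hxP⟩ * k⁻¹ ∈ Subgroup.zpowers (⟨b, hbP⟩ : P) := by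
    have e2 : (Subgroup.zpowers (⟨x, hxP⟩ : P)).map (MulAut.conj k).toMonoidHom =
        Subgroup.zpowers (⟨b, hbP⟩ : P) := hk'
    rw [← e2]
    exact ⟨_, Subgroup.mem_zpowers _, rfl⟩
  obtain ⟨l, hl⟩ := Subgroup.mem_zpowers_iff.1 hmem
  have hl' : b ^ l = (k : Subgroup.centralizer ({z} : Set G)) * x * (k : Subgroup.centralizer ({z} : Set G))⁻¹ := by
    have := congrArg Subtype.val hl
    simpa using this
  obtain ⟨j, hj⟩ := Subgroup.mem_zpowers_iff.1 (k.2 : proj e k ∈ Subgroup.zpowers O.beta)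
  have hli : O.beta ^ l = O.beta ^ (i : ℤ) := by
    have := congrArg (proj e) hl'
    rw [map_zpow, F.hpb, map_mul, map_mul, map_inv, hpx, ← hj] at this
    rw [this, zpow_natCast, (Commute.pow_right (Commute.zpow_self O.beta j) i).eq, mul_inv_cancel_right]
  have hbli : b ^ l = b ^ i := by
    rw [← zpow_natCast b i, zpow_eq_zpow_iff_modEq, hob]
    rw [zpow_eq_zpow_iff_modEq, O.orderOf_beta] at hli
    exact hli
  refine ⟨(b ^ j)⁻¹ * k * h0, ?_, ?_⟩
  · rw [map_mul, map_mul, map_inv, map_zpow, F.hpb, hh0, hj, inv_mul_cancel, one_mul]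
  · have e3 : (k : Subgroup.centralizer ({z} : Set G)) * h0 * b = b ^ i * (k * h0) := by
      rw [← hbli, hl', hx]; group
    calc (b ^ j)⁻¹ * k * h0 * b = (b ^ j)⁻¹ * (k * h0 * b) := by group
      _ = ((b ^ j)⁻¹ * b ^ i) * (k * h0) := by rw [e3, mul_assoc]
      _ = (b ^ i * (b ^ j)⁻¹) * (k * h0) := by
        rw [((Commute.pow_right (Commute.zpow_self b j) i).inv_left).eq]
      _ = _ := by group

end Cfsg.Agent.Spor.MonsterLocal
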