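import Cfsg.Agent.Lib.Spor.MonsterLocal.Main
import Cfsg.Agent.Lib.Spor.CoLocal.Five

/-!
The centraliser of a Sylow 5-subgroup of the joint centraliser, modulo it, is of Harada-Norton type.
-/

set_option autoImplicit false
set_option maxRecDepth 100000

namespace Cfsg.Agent.Spor.MonsterLocal

open Cfsg Cfsg.Agent.Spor.MonsterFusion
open scoped Pointwise

variable {G : Type*} [Group G] [Finite G] {z s : G} {Q : Subgroup (Subgroup.centralizer ({z} : Set G))} [Q.Normal]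

theorem five_hn_type (hM : IsOfMonsterType z Q)
    (hsQ : ∃ hsc : s ∈ Subgroup.centralizer ({z} : Set G), (⟨s, hsc⟩ : Subgroup.centralizer ({z} : Set G)) ∈ Q)
    (hs : IsConj z s) (hs1 : s ≠ z) {B : Subgroup G} (hB : B ≤ Subgroup.centralizer ({z, s} : Set G))
    (hBp : Nat.card B = 5 ^ (Nat.card ↥(Subgroup.centralizer ({z, s} : Set G))).factorization 5)
    [hn : (B.subgroupOf (Subgroup.centralizer (B : Set G))).Normal] :
    IsOfHaradaNortonType (↥(Subgroup.centralizer (B : Set G)) ⧸ B.subgroupOf (Subgroup.centralizer (B : Set G))) := by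
  classical
  haveI := co0_finite
  haveI : Fact (Nat.Prime 5) := ⟨by norm_num⟩
  obtain ⟨e, ψ, x0, J⟩ := exists_joint hM hsQ hs hs1
  have hfH : (2048 * 244823040 : ℕ).factorization 5 = 1 := by
    rw [show (2048 * 244823040 : ℕ) = 5 ^ 1 * (2048 * 48964608) by norm_num,
      Nat.factorization_mul (by norm_num) (by norm_num), Finsupp.add_apply,
      Nat.Prime.factorization_pow (by norm_num : Nat.Prime 5), Finsupp.single_eq_same,
      Nat.factorization_eq_zero_of_not_dvd (by norm_num)]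
  rw [J.card_fac (by norm_num) (by norm_num), hfH, pow_one] at hBp
  haveI : IsCyclic B := isCyclic_of_prime_card hBp
  obtain ⟨⟨b0, hb0⟩, hgen⟩ := IsCyclic.exists_generator (α := B)
  have hb0o : orderOf b0 = 5 := by
    rw [← hBp, ← orderOf_eq_card_of_forall_mem_zpowers hgen, ← Subgroup.orderOf_coe]
  set c0 : ↥(Subgroup.centralizer ({z, s} : Set G)) := ⟨b0, hB hb0⟩ with hc0
  have hc05 : c0 ^ 5 = 1 := Subtype.ext (by
    rw [SubmonoidClass.coe_pow, OneMemClass.coe_one, ← hb0o]; exact pow_orderOf_eq_one b0)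
  set ρ := (proj e).comp (jIncl z s) with hρ
  have hρ0 : ρ c0 ≠ 1 := fun h => by
    have h1 := pgroup_meet (p := 5) (by norm_num) (by norm_num) (H := Subgroup.zpowers c0)
      (IsPGroup.of_card (n := 1) (by rw [Nat.card_zpowers, ← Subgroup.orderOf_coe, pow_one]; exact hb0o))
      J.ker (Subgroup.mem_zpowers c0) h
    have h2 : b0 = 1 := congrArg Subtype.val h1
    rw [h2, orderOf_one] at hb0o
    omega
  have hρo : orderOf (ρ c0) = 5 := orderOf_eq_prime (by rw [← map_pow, hc05, map_one]) hρ0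
  set Hs := classStab1 (e8 none) with hHs
  have h0 : ρ c0 ∈ Hs := by rw [hHs, ← J.range]; exact ⟨c0, rfl⟩
  have hS5 : ∀ a : Cfsg.Spor.Co1, ∀ ha : a ∈ Hs, orderOf a = 5 →
      Nat.card (Subgroup.zpowers (⟨a, ha⟩ : Hs)) = 5 ^ (Nat.card Hs).factorization 5 := fun a ha ho => by
    rw [Nat.card_zpowers, card_classStab1, hfH, ← Subgroup.orderOf_coe]; exact ho.trans (pow_one _).symm
  set O := CoLocal.five_ok'
  let P0 := Sylow.ofCard (Subgroup.zpowers (⟨ρ c0, h0⟩ : Hs)) (p := 5) (hS5 _ h0 hρo)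
  let P1 := Sylow.ofCard (Subgroup.zpowers (⟨O.beta, O.beta_stab⟩ : Hs)) (p := 5) (hS5 _ _ O.orderOf_beta)
  obtain ⟨t, ht⟩ := MulAction.exists_smul_eq Hs P0 P1
  have ht' : (Subgroup.zpowers (⟨ρ c0, h0⟩ : Hs)).map (MulAut.conj t).toMonoidHom =
      Subgroup.zpowers (⟨O.beta, O.beta_stab⟩ : Hs) :=
    congrArg (fun T : Sylow 5 Hs => (T : Subgroup Hs)) ht
  obtain ⟨w, hw, hwt⟩ : (⟨O.beta, O.beta_stab⟩ : Hs) ∈
      (Subgroup.zpowers (⟨ρ c0, h0⟩ : Hs)).map (MulAut.conj t).toMonoidHom := ht' ▸ Subgroup.mem_zpowers _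
  obtain ⟨j, rfl⟩ := Subgroup.mem_zpowers_iff.1 hw
  have hc : (t : Cfsg.Spor.Co1) * (ρ c0) ^ j * (t : Cfsg.Spor.Co1)⁻¹ = O.beta := by
    simpa using congrArg Subtype.val hwt
  obtain ⟨e', ψ', b, F, hb⟩ := J.frame O c0 hc05 t.2 hc
  have hBb : B = Subgroup.zpowers (b : G) := by
    rw [hb]
    refine (Subgroup.eq_of_le_of_card_ge (Subgroup.zpowers_le.2 hb0) ?_).symm
    rw [hBp, Nat.card_zpowers]
    exact le_of_eq hb0o.symm
  obtain ⟨z', R, hR, hset, ⟨iso⟩⟩ := F.setting CoLocal.five_group B hBb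
  obtain ⟨iso'⟩ := CoLocal.five_iso
  exact ⟨z', R, hR, hset, ⟨iso.trans iso'⟩⟩

end Cfsg.Agent.Spor.MonsterLocal
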