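import Mathlib

/-!
Elements of prime order and subgroups of odd prime power order under a map with a 2-group as kernel.
-/

set_option autoImplicit false

namespace Cfsg.Agent.Spor.MonsterLocal

variable {A B : Type*} [Group A] [Group B] [Finite A] [Finite B]

theorem two_coprime {p k : ℕ} (hp : p.Prime) (hodd : p % 2 = 1) : Nat.Coprime p (2 ^ k) :=
  Nat.Coprime.pow_right k ((Nat.coprime_primes hp Nat.prime_two).2 (by omega))

theorem pgroup_meet {p : ℕ} (hp : p.Prime) (hodd : p % 2 = 1) {H K : Subgroup A} (hH : IsPGroup p H)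
    (hK : IsPGroup 2 K) {x : A} (hxH : x ∈ H) (hxK : x ∈ K) : x = 1 := by
  obtain ⟨i, hi⟩ := hH ⟨x, hxH⟩
  obtain ⟨j, hj⟩ := hK ⟨x, hxK⟩
  have hi' : x ^ p ^ i = 1 := congrArg Subtype.val hi
  have hj' : x ^ 2 ^ j = 1 := congrArg Subtype.val hj
  rw [← orderOf_eq_one_iff]
  have hg : Nat.gcd (p ^ i) (2 ^ j) = 1 := Nat.Coprime.pow_left i (two_coprime hp hodd)
  have := Nat.dvd_gcd (orderOf_dvd_of_pow_eq_one hi') (orderOf_dvd_of_pow_eq_one hj')
  rwa [hg, Nat.dvd_one] at this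

theorem fac_mul_two {p n k : ℕ} (hp : p.Prime) (hodd : p % 2 = 1) (hn : n ≠ 0) :
    (n * 2 ^ k).factorization p = n.factorization p := by
  have h0 : (2 ^ k).factorization p = 0 := Nat.factorization_eq_zero_of_not_dvd fun hd => by
    have := (Nat.prime_dvd_prime_iff_eq hp Nat.prime_two).1 (Nat.Prime.dvd_of_dvd_pow hp hd)
    omega
  rw [Nat.factorization_mul hn (pow_ne_zero k two_ne_zero), Finsupp.add_apply, h0, add_zero]

theorem card_preimage (f : A →* B) {P : Subgroup B} (hP : P ≤ f.range) :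
    Nat.card (P.comap f) = Nat.card P * Nat.card f.ker := by
  let g : P.comap f →* P := MonoidHom.mk' (fun a => ⟨f a, a.2⟩) fun a b => Subtype.ext (map_mul f _ _)
  have hg : Function.Surjective g := fun y => by
    obtain ⟨a, ha⟩ := hP y.2
    exact ⟨⟨a, by rw [Subgroup.mem_comap, ha]; exact y.2⟩, Subtype.ext ha⟩
  rw [Subgroup.card_eq_card_quotient_mul_card_subgroup g.ker,
    Nat.card_congr (QuotientGroup.quotientKerEquivOfSurjective g hg).toEquiv]
  congr 1
  refine Nat.card_congr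
    ⟨fun a => ⟨((a : P.comap f) : A), MonoidHom.mem_ker.2 (congrArg Subtype.val a.2)⟩,
      fun a => ⟨⟨a, by rw [Subgroup.mem_comap, MonoidHom.mem_ker.1 a.2]; exact one_mem P⟩,
        Subtype.ext (MonoidHom.mem_ker.1 a.2)⟩, fun _ => rfl, fun _ => rfl⟩

/-- two elements of odd prime order with the same image are conjugate -/
theorem conj_of_image (f : A →* B) (hker : IsPGroup 2 f.ker) {p : ℕ} (hp : p.Prime) (hodd : p % 2 = 1)
    {x y : A} (hx : orderOf x = p) (hy : orderOf y = p) (h : f x = f y) : ∃ t : A, t * x * t⁻¹ = y := by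
  haveI : Fact p.Prime := ⟨hp⟩
  haveI : Fact (Nat.Prime 2) := ⟨Nat.prime_two⟩
  have hfy : f y ≠ 1 := fun e => by
    have := pgroup_meet hp hodd (H := Subgroup.zpowers y)
      (IsPGroup.of_card (n := 1) (by rw [Nat.card_zpowers, hy, pow_one])) hker (Subgroup.mem_zpowers y) e
    rw [this, orderOf_one] at hy
    exact hp.one_lt.ne hy
  have hfyo : orderOf (f y) = p := orderOf_eq_prime (by rw [← map_pow, ← hy, pow_orderOf_eq_one, map_one]) hfy
  set T := (Subgroup.zpowers (f y)).comap f with hT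
  have hxT : x ∈ T := by rw [hT, Subgroup.mem_comap, h]; exact Subgroup.mem_zpowers _
  have hyT : y ∈ T := by rw [hT, Subgroup.mem_comap]; exact Subgroup.mem_zpowers _
  obtain ⟨k, hk⟩ := IsPGroup.iff_card.1 hker
  have hcard : (Nat.card T).factorization p = 1 := by
    rw [hT, card_preimage f (Subgroup.zpowers_le.2 ⟨y, rfl⟩), hk, fac_mul_two hp hodd Nat.card_pos.ne',
      Nat.card_zpowers, hfyo, Nat.Prime.factorization_self hp]
  have hc : ∀ w : A, ∀ hw : w ∈ T, orderOf w = p →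
      Nat.card (Subgroup.zpowers (⟨w, hw⟩ : T)) = p := fun w hw ho => by
    rw [Nat.card_zpowers, ← Subgroup.orderOf_coe]; exact ho
  let Sx := Sylow.ofCard (Subgroup.zpowers (⟨x, hxT⟩ : T)) (p := p) (by rw [hc x hxT hx, hcard, pow_one])
  let Sy := Sylow.ofCard (Subgroup.zpowers (⟨y, hyT⟩ : T)) (p := p) (by rw [hc y hyT hy, hcard, pow_one])
  obtain ⟨t, ht⟩ := MulAction.exists_smul_eq T Sx Sy
  have hmem : t * ⟨x, hxT⟩ * t⁻¹ ∈ Subgroup.zpowers (⟨y, hyT⟩ : T) := by
    have e2 : (Subgroup.zpowers (⟨x, hxT⟩ : T)).map (MulAut.conj t).toMonoidHom =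
        Subgroup.zpowers (⟨y, hyT⟩ : T) := congrArg (fun S : Sylow p T => (S : Subgroup T)) ht
    rw [← e2]
    exact ⟨_, Subgroup.mem_zpowers _, rfl⟩
  obtain ⟨l, hl⟩ := Subgroup.mem_zpowers_iff.1 hmem
  have hl' : y ^ l = (t : A) * x * (t : A)⁻¹ := by simpa using congrArg Subtype.val hl
  obtain ⟨j, hj⟩ := Subgroup.mem_zpowers_iff.1 (t.2 : f (t : A) ∈ Subgroup.zpowers (f y))
  refine ⟨t, ?_⟩
  rw [← hl']
  have hfl : f y ^ l = f y ^ (1 : ℤ) := by
    rw [← map_zpow, hl', map_mul, map_mul, map_inv, h, ← hj, zpow_one,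
      (Commute.zpow_self (f y) j).eq, mul_inv_cancel_right]
  rw [zpow_eq_zpow_iff_modEq, hfyo] at hfl
  conv_rhs => rw [← zpow_one y]
  rw [zpow_eq_zpow_iff_modEq, hy]
  exact hfl

/-- a central element of a subgroup of prime power order lifts to a central element -/
theorem central_lift (f : A →* B) (hker : IsPGroup 2 f.ker) {p m : ℕ} (hp : p.Prime) (hodd : p % 2 = 1)
    {P : Subgroup B} (hP : P ≤ f.range) (hPc : Nat.card P = p ^ m) {a : A} (ha : ∃ i, a ^ p ^ i = 1)
    (haP : f a ∈ P) (hac : ∀ u ∈ P, u * f a = f a * u) :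
    ∃ S : Subgroup A, a ∈ S ∧ Nat.card S = p ^ m ∧ ∀ u ∈ S, u * a = a * u := by
  haveI : Fact p.Prime := ⟨hp⟩
  set T := P.comap f with hT
  obtain ⟨k, hk⟩ := IsPGroup.iff_card.1 hker
  have hfac : (Nat.card T).factorization p = m := by
    rw [hT, card_preimage f hP, hk, fac_mul_two hp hodd Nat.card_pos.ne', hPc, Nat.Prime.factorization_pow hp,
      Finsupp.single_eq_same]
  have haT : a ∈ T := haP
  obtain ⟨i, hi⟩ := ha
  have hz : IsPGroup p (Subgroup.zpowers (⟨a, haT⟩ : T)) := by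
    obtain ⟨j, -, hj⟩ := (Nat.dvd_prime_pow hp).1 (orderOf_dvd_of_pow_eq_one hi)
    exact IsPGroup.of_card (n := j) (by rw [Nat.card_zpowers, ← Subgroup.orderOf_coe]; exact hj)
  obtain ⟨S0, hS0⟩ := hz.exists_le_sylow
  refine ⟨(S0 : Subgroup T).map T.subtype, ⟨_, hS0 (Subgroup.mem_zpowers _), rfl⟩, ?_, ?_⟩
  · rw [Subgroup.card_map_of_injective T.subtype_injective, Sylow.card_eq_multiplicity, hfac]
  · rintro _ ⟨u, hu, rfl⟩
    have hc : u * ⟨a, haT⟩ * u⁻¹ * (⟨a, haT⟩ : T)⁻¹ = 1 := by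
      have hmS : u * ⟨a, haT⟩ * u⁻¹ * (⟨a, haT⟩ : T)⁻¹ ∈ (S0 : Subgroup T) :=
        mul_mem (mul_mem (mul_mem hu (hS0 (Subgroup.mem_zpowers _))) (inv_mem hu))
          (inv_mem (hS0 (Subgroup.mem_zpowers _)))
      refine pgroup_meet hp hodd S0.2 (hker.comap_of_injective T.subtype Subtype.val_injective)
        hmS ?_
      rw [Subgroup.mem_comap, MonoidHom.mem_ker]
      simp only [Subgroup.coe_subtype, Subgroup.coe_mul, InvMemClass.coe_inv, map_mul, map_inv]
      rw [hac _ u.2, mul_inv_cancel_right, mul_inv_cancel]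
    rw [mul_inv_eq_one, mul_inv_eq_iff_eq_mul] at hc
    exact congrArg Subtype.val hc

end Cfsg.Agent.Spor.MonsterLocal
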