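import Cfsg.Agent.Lib.Spor.GolayElemData

/-!
A subgroup of order 27 of M24 centralising the element of order three with six fixed points.
-/

set_option autoImplicit false
set_option maxRecDepth 100000

namespace Cfsg.Agent.Spor.MonsterLocal

/-- the elements -/
def sylThree : List (List Nat) := [[0, 1, 2, 3, 4, 5, 6, 7, 8, 9, 10, 11, 12, 13, 14, 15, 16, 17, 18, 19, 20, 21, 22, 23],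
  [0, 1, 2, 4, 12, 6, 9, 7, 16, 5, 10, 19, 3, 11, 14, 22, 23, 20, 15, 13, 21, 17, 18, 8],
  [0, 1, 2, 12, 3, 9, 5, 7, 23, 6, 10, 13, 4, 19, 14, 18, 8, 21, 22, 11, 17, 20, 15, 16],
  [1, 2, 0, 3, 4, 17, 20, 7, 6, 21, 10, 13, 12, 19, 14, 22, 9, 23, 15, 11, 8, 16, 18, 5],
  [1, 2, 0, 4, 12, 20, 21, 7, 9, 17, 10, 11, 3, 13, 14, 18, 5, 8, 22, 19, 16, 23, 15, 6],
  [1, 2, 0, 12, 3, 21, 17, 7, 5, 20, 10, 19, 4, 11, 14, 15, 6, 16, 18, 13, 23, 8, 22, 9],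
  [2, 0, 1, 3, 4, 23, 8, 7, 20, 16, 10, 19, 12, 11, 14, 18, 21, 5, 22, 13, 6, 9, 15, 17],
  [2, 0, 1, 4, 12, 8, 16, 7, 21, 23, 10, 13, 3, 19, 14, 15, 17, 6, 18, 11, 9, 5, 22, 20],
  [2, 0, 1, 12, 3, 16, 23, 7, 17, 8, 10, 11, 4, 13, 14, 22, 20, 9, 15, 19, 5, 6, 18, 21],
  [3, 4, 12, 15, 18, 9, 16, 10, 6, 21, 14, 13, 22, 19, 7, 0, 8, 23, 1, 11, 17, 5, 2, 20],
  [3, 4, 12, 18, 22, 16, 21, 10, 8, 9, 14, 11, 15, 13, 7, 2, 20, 17, 0, 19, 5, 23, 1, 6],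
  [3, 4, 12, 22, 15, 21, 9, 10, 20, 16, 14, 19, 18, 11, 7, 1, 6, 5, 2, 13, 23, 17, 0, 8],
  [4, 12, 3, 15, 18, 23, 17, 10, 16, 5, 14, 19, 22, 11, 7, 2, 21, 20, 0, 13, 6, 8, 1, 9],
  [4, 12, 3, 18, 22, 17, 5, 10, 21, 23, 14, 13, 15, 19, 7, 1, 9, 6, 2, 11, 8, 20, 0, 16],
  [4, 12, 3, 22, 15, 5, 23, 10, 9, 17, 14, 11, 18, 13, 7, 0, 16, 8, 1, 19, 20, 6, 2, 21],
  [12, 3, 4, 15, 18, 20, 6, 10, 17, 8, 14, 11, 22, 13, 7, 1, 5, 9, 2, 19, 16, 21, 0, 23],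
  [12, 3, 4, 18, 22, 6, 8, 10, 5, 20, 14, 19, 15, 11, 7, 0, 23, 16, 1, 13, 21, 9, 2, 17],
  [12, 3, 4, 22, 15, 8, 20, 10, 23, 6, 14, 13, 18, 19, 7, 2, 17, 21, 0, 11, 9, 16, 1, 5],
  [15, 18, 22, 0, 1, 21, 8, 14, 16, 5, 7, 19, 2, 11, 10, 3, 6, 20, 4, 13, 23, 9, 12, 17],
  [15, 18, 22, 1, 2, 8, 5, 14, 6, 21, 7, 13, 0, 19, 10, 12, 17, 23, 3, 11, 9, 20, 4, 16],
  [15, 18, 22, 2, 0, 5, 21, 14, 17, 8, 7, 11, 1, 13, 10, 4, 16, 9, 12, 19, 20, 23, 3, 6],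
  [18, 22, 15, 0, 1, 20, 23, 14, 8, 9, 7, 11, 2, 13, 10, 12, 5, 17, 3, 19, 16, 6, 4, 21],
  [18, 22, 15, 1, 2, 23, 9, 14, 5, 20, 7, 19, 0, 11, 10, 4, 21, 16, 12, 13, 6, 17, 3, 8],
  [18, 22, 15, 2, 0, 9, 20, 14, 21, 23, 7, 13, 1, 19, 10, 3, 8, 6, 4, 11, 17, 16, 12, 5],
  [22, 15, 18, 0, 1, 17, 16, 14, 23, 6, 7, 13, 2, 19, 10, 4, 9, 21, 12, 11, 8, 5, 3, 20],
  [22, 15, 18, 1, 2, 16, 6, 14, 9, 17, 7, 11, 0, 13, 10, 3, 20, 8, 4, 19, 5, 21, 12, 23],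
  [22, 15, 18, 2, 0, 6, 17, 14, 20, 16, 7, 19, 1, 11, 10, 12, 23, 5, 3, 13, 21, 8, 4, 9]]

end Cfsg.Agent.Spor.MonsterLocal
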