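import Cfsg.Agent.Lib.Spor.MonsterLocal.Lifts
import Cfsg.Agent.Lib.Spor.MonsterLocal.ThreeData
import Cfsg.Agent.Lib.Spor.CoLocal.Main
import Cfsg.Agent.Lib.Spor.CoLocal.ThreeData
import Cfsg.Agent.Lib.Spor.GolayElemFacts

/-!
Elements of order three of the monomial group: either conjugate to the chosen one or central in a
subgroup of order 27.
-/

set_option autoImplicit false
set_option maxRecDepth 100000

namespace Cfsg.Agent.Spor.MonsterLocal

open Cfsg Cfsg.Agent.Spor.MonsterFusion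
open scoped Pointwise

local notation "Zv" => GolayPt → ℤ
set_option quotPrecheck false in
local notation "Lv" => ↥leechLattice

theorem mono_form (g : monoSub) : ∃ σ : M24, ∃ w : GolayPt → ZMod 2,
    ∀ v : Lv, (((g : ↥Co0) • v : Lv) : Zv) = sgn w (prm (σ : Equiv.Perm GolayPt) (v : Zv)) := by
  obtain ⟨σ, hσ, w, -, e⟩ := std_form (mem_monoSub.1 g.2)
  exact ⟨⟨σ, hσ⟩, w, e⟩

/-- the permutation part -/
noncomputable def monPerm : monoSub →* M24 :=
  MonoidHom.mk' (fun g => (mono_form g).choose) fun a b => by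
    obtain ⟨wa, ha⟩ := (mono_form a).choose_spec
    obtain ⟨wb, hb⟩ := (mono_form b).choose_spec
    obtain ⟨w, hw⟩ := (mono_form (a * b)).choose_spec
    refine Subtype.ext (mono_unique (σ := ((mono_form (a * b)).choose : Equiv.Perm GolayPt))
      (τ := ((mono_form a).choose : Equiv.Perm GolayPt) * (mono_form b).choose) (w := w)
      (w' := wa + actW ((mono_form a).choose : Equiv.Perm GolayPt) wb) fun v => ?_).1
    rw [← hw v, Subgroup.coe_mul, mono_mul ha hb v]

theorem monPerm_spec {g : monoSub} {σ : M24} {w : GolayPt → ZMod 2}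
    (h : ∀ v : Lv, (((g : ↥Co0) • v : Lv) : Zv) = sgn w (prm (σ : Equiv.Perm GolayPt) (v : Zv))) :
    monPerm g = σ := by
  obtain ⟨w', hw'⟩ := (mono_form g).choose_spec
  exact Subtype.ext (mono_unique (w := w') (w' := w) fun v => (hw' v).symm.trans (h v)).1

theorem monPerm_surj : Function.Surjective monPerm := fun σ => by
  obtain ⟨g, hg⟩ := exists_prm σ.2
  have hs : ∀ v : Lv, ((g • v : Lv) : Zv) = sgn 0 (prm (σ : Equiv.Perm GolayPt) (v : Zv)) := fun v => by
    rw [hg]; funext p; simp [sgn]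
  exact ⟨⟨g, mem_monoSub.2 (mono_std hs)⟩, monPerm_spec hs⟩

theorem monPerm_ker : IsPGroup 2 monPerm.ker := fun g => by
  obtain ⟨w, hw⟩ := (mono_form g.1).choose_spec
  have h1 : ((mono_form g.1).choose : Equiv.Perm GolayPt) = 1 :=
    congrArg Subtype.val (show monPerm g.1 = 1 from g.2)
  refine ⟨1, Subtype.ext (Subtype.ext (co0_ext fun v => ?_))⟩
  show ((((g : monoSub) : ↥Co0) ^ (2 ^ 1) • v : Lv) : Zv) = (((1 : ↥Co0) • v : Lv) : Zv)
  have hp1 : ∀ y : Zv, prm 1 y = y := fun y => funext fun p => by simp [prm, Equiv.Perm.one_def]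
  rw [pow_one, sq, mul_smul, hw, hw, one_smul, h1, hp1, hp1]
  funext p
  simp only [sgn]
  split_ifs <;> simp

theorem monPerm_finite : Finite monoSub := by
  haveI := co0_finite
  infer_instance

theorem syl_ok : sylThree.all m24ok = true ∧ sylThree.Nodup ∧ sylThree.length = 27 ∧
    sylThree.elem threeFixed = true ∧ sylThree.elem (List.range 24) = true ∧
    (sylThree.all fun a => (sylThree.all fun b => sylThree.elem (lmul a b)) &&
      (sylThree.any fun b => lmul a b == List.range 24) && (lmul a threeFixed == lmul threeFixed a)) = true := by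
  decide +kernel

/-- the subgroup of order 27 -/
noncomputable def syl : Subgroup M24 where
  carrier := {x | ∃ l ∈ sylThree, (x : Equiv.Perm GolayPt) = lperm l}
  one_mem' := ⟨_, List.elem_iff.1 syl_ok.2.2.2.2.1, lperm_id.symm⟩
  mul_mem' := by
    rintro x y ⟨a, ha, hxa⟩ ⟨b, hb, hyb⟩
    obtain ⟨hall, -, -, -, -, hcl⟩ := syl_ok
    have h := List.all_eq_true.1 hcl a ha
    simp only [Bool.and_eq_true, List.all_eq_true] at h
    have hab := List.elem_iff.1 (h.1.1 b hb)
    refine ⟨_, hab, ?_⟩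
    rw [Subgroup.coe_mul, hxa, hyb, lperm_lmul (m24ok_lok (List.all_eq_true.1 hall a ha))
      (m24ok_lok (List.all_eq_true.1 hall b hb)) (m24ok_lok (List.all_eq_true.1 hall _ hab))]
  inv_mem' := by
    rintro x ⟨a, ha, hxa⟩
    obtain ⟨hall, -, -, -, hid, hcl⟩ := syl_ok
    have h := List.all_eq_true.1 hcl a ha
    simp only [Bool.and_eq_true, List.any_eq_true, beq_iff_eq] at h
    obtain ⟨b, hb, he⟩ := h.1.2
    refine ⟨b, hb, ?_⟩
    rw [InvMemClass.coe_inv, hxa]
    refine inv_eq_of_mul_eq_one_right ?_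
    rw [← lperm_lmul (m24ok_lok (List.all_eq_true.1 hall a ha)) (m24ok_lok (List.all_eq_true.1 hall b hb))
      (by rw [he]; exact lok_id), he, lperm_id]

theorem card_syl : Nat.card syl = 27 := by
  classical
  obtain ⟨hall, hnd, hlen, -⟩ := syl_ok
  let f : ↥sylThree.toFinset → syl := fun l =>
    ⟨⟨lperm l.1, lperm_mem (List.all_eq_true.1 hall _ (List.mem_toFinset.1 l.2))⟩, l.1, List.mem_toFinset.1 l.2, rfl⟩
  have hf : Function.Bijective f := by
    refine ⟨fun a b e => Subtype.ext (lperm_inj_on (m24ok_lok (List.all_eq_true.1 hall _ (List.mem_toFinset.1 a.2)))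
      (m24ok_lok (List.all_eq_true.1 hall _ (List.mem_toFinset.1 b.2)))
      (congrArg (fun x : syl => ((x : M24) : Equiv.Perm GolayPt)) e)), ?_⟩
    rintro ⟨x, l, hl, hx⟩
    exact ⟨⟨l, List.mem_toFinset.2 hl⟩, Subtype.ext (Subtype.ext hx.symm)⟩
  rw [← Nat.card_eq_of_bijective f hf, Nat.card_eq_fintype_card, Fintype.card_coe,
    List.toFinset_card_of_nodup hnd, hlen]

theorem three_free_sigma : ∀ q, CoLocal.threeDat.sx q ≠ q := by decide +kernel

theorem three_alt (O : CoLocal.threeDat.Ok) {g : ↥Co0} (hg : g ∈ monoSub) (h3 : orderOf g = 3) :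
    (∃ h ∈ monoSub, h * g * h⁻¹ = O.fix.pel) ∨
      ∃ S : Subgroup ↥Co0, S ≤ monoSub ∧ g ∈ S ∧ Nat.card S = 27 ∧ ∀ u ∈ S, u * g = g * u := by
  classical
  haveI := co0_finite
  haveI : Fact (Nat.Prime 3) := ⟨Nat.prime_three⟩
  haveI : Fact (Nat.Prime 2) := ⟨Nat.prime_two⟩
  set gm : monoSub := ⟨g, hg⟩ with hgm
  have hgo : orderOf gm = 3 := by rw [← Subgroup.orderOf_coe]; exact h3
  have hg3 : gm ^ 3 = 1 := by rw [← hgo, pow_orderOf_eq_one]
  have hne : monPerm gm ≠ 1 := fun e => by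
    have h := pgroup_meet (p := 3) Nat.prime_three rfl (H := Subgroup.zpowers gm)
      (IsPGroup.of_card (n := 1) (by rw [Nat.card_zpowers, hgo, pow_one])) monPerm_ker (Subgroup.mem_zpowers gm) e
    rw [h, orderOf_one] at hgo
    omega
  have hσ3 : orderOf (monPerm gm) = 3 := orderOf_eq_prime (by rw [← map_pow, hg3, map_one]) hne
  obtain ⟨hfix, -⟩ | ⟨-, k, hk, hkc⟩ := three_by_fix (monPerm gm).2 (by rw [Subgroup.orderOf_coe]; exact hσ3)
  · left
    set pm : monoSub := ⟨O.fix.pel, by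
      rw [mem_monoSub]
      exact mono_std (σ := CoLocal.threeDat.sigma) (w := 0) fun v => by
        rw [O.fix.pel_spec]; funext p; simp [sgn]⟩ with hpm
    have hpmσ : monPerm pm = ⟨CoLocal.threeDat.sigma, O.fix.mem⟩ :=
      monPerm_spec (w := 0) fun v => by
        show ((O.fix.pel • v : Lv) : Zv) = _
        rw [O.fix.pel_spec]; funext p; simp [sgn]
    have hpo : orderOf pm = 3 := by
      rw [← Subgroup.orderOf_coe]
      exact orderOf_eq_prime O.fix.pel_pow O.fix.pel_ne
    have hσo : orderOf CoLocal.threeDat.sigma = 3 := by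
      refine orderOf_eq_prime O.fix.sigma_pow fun e => ?_
      obtain ⟨i, hi⟩ := O.fix.moves
      rw [← O.fix.sigma_apply, e, Equiv.Perm.one_apply] at hi
      exact hi rfl
    have h0 : (fixSet CoLocal.threeDat.sigma).card = 0 :=
      (free_iff _).1 fun q => by rw [O.fix.sigma_apply]; exact three_free_sigma q
    obtain ⟨-, k1, hk1, e1⟩ | ⟨h6, -⟩ := three_by_fix (monPerm gm).2 (by rw [Subgroup.orderOf_coe]; exact hσ3)
    swap
    · omega
    obtain ⟨-, k2, hk2, e2⟩ | ⟨h6, -⟩ := three_by_fix (g := CoLocal.threeDat.sigma) O.fix.mem hσo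
    swap
    · omega
    obtain ⟨c, hc, hce⟩ := conj_trans hk1 hk2 e1 e2
    obtain ⟨cm, hcm⟩ := monPerm_surj ⟨c, hc⟩
    have himg : monPerm (cm * gm * cm⁻¹) = monPerm pm := by
      rw [map_mul, map_mul, map_inv, hcm, hpmσ]
      exact Subtype.ext hce
    obtain ⟨t, ht⟩ := conj_of_image monPerm monPerm_ker Nat.prime_three rfl
      (by rw [show cm * gm * cm⁻¹ = MulAut.conj cm gm from rfl, MulEquiv.orderOf_eq, hgo]) hpo himg
    refine ⟨((t * cm : monoSub) : ↥Co0), (t * cm).2, ?_⟩
    have := congrArg Subtype.val ht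
    simp only [Subgroup.coe_mul, InvMemClass.coe_inv] at this ⊢
    rw [← show O.fix.pel = ((pm : monoSub) : ↥Co0) from rfl] at this
    rw [← this, show ((gm : monoSub) : ↥Co0) = g from rfl]
    group
  · right
    obtain ⟨cm, hcm⟩ := monPerm_surj ⟨k, hk⟩
    set P := syl.map (MulAut.conj (monPerm cm)⁻¹).toMonoidHom with hP
    have hz : ((monPerm (cm * gm * cm⁻¹) : M24) : Equiv.Perm GolayPt) = lperm threeFixed := by
      rw [map_mul, map_mul, map_inv, hcm]
      exact hkc
    have hgP : monPerm gm ∈ P := by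
      refine ⟨monPerm (cm * gm * cm⁻¹), ⟨threeFixed, List.elem_iff.1 syl_ok.2.2.2.1, hz⟩, ?_⟩
      show (monPerm cm)⁻¹ * monPerm (cm * gm * cm⁻¹) * (monPerm cm)⁻¹⁻¹ = monPerm gm
      rw [map_mul, map_mul, map_inv]; group
    have hcent : ∀ u ∈ P, u * monPerm gm = monPerm gm * u := by
      rintro _ ⟨u, ⟨l, hl, hul⟩, rfl⟩
      show (monPerm cm)⁻¹ * u * (monPerm cm)⁻¹⁻¹ * monPerm gm = monPerm gm * ((monPerm cm)⁻¹ * u * (monPerm cm)⁻¹⁻¹)
      have h1 : u * monPerm (cm * gm * cm⁻¹) = monPerm (cm * gm * cm⁻¹) * u := by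
        refine Subtype.ext ?_
        rw [Subgroup.coe_mul, Subgroup.coe_mul, hul, hz]
        obtain ⟨hall, -, -, hz0, -, hcl⟩ := syl_ok
        have h := List.all_eq_true.1 hcl l hl
        simp only [Bool.and_eq_true, beq_iff_eq] at h
        have r1 := (rep_lperm (m24ok_lok (List.all_eq_true.1 hall l hl))).mul
          (rep_lperm (m24ok_lok (List.all_eq_true.1 hall _ (List.elem_iff.1 hz0))))
        have r2 := (rep_lperm (m24ok_lok (List.all_eq_true.1 hall _ (List.elem_iff.1 hz0)))).mul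
          (rep_lperm (m24ok_lok (List.all_eq_true.1 hall l hl)))
        exact rep_unique r1 (h.2 ▸ r2)
      rw [map_mul, map_mul, map_inv] at h1
      calc (monPerm cm)⁻¹ * u * (monPerm cm)⁻¹⁻¹ * monPerm gm
          = (monPerm cm)⁻¹ * (u * (monPerm cm * monPerm gm * (monPerm cm)⁻¹)) * monPerm cm := by group
        _ = (monPerm cm)⁻¹ * ((monPerm cm * monPerm gm * (monPerm cm)⁻¹) * u) * monPerm cm := by rw [h1]
        _ = _ := by group
    obtain ⟨S, hgS, hS, hSc⟩ := central_lift monPerm monPerm_ker (p := 3) (m := 3) Nat.prime_three rfl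
      (P := P) (fun x _ => monPerm_surj x)
      (by rw [hP, Subgroup.card_map_of_injective (MulAut.conj _).injective, card_syl]; rfl)
      ⟨1, by rw [pow_one]; exact hg3⟩ hgP hcent
    refine ⟨S.map monoSub.subtype, Subgroup.map_subtype_le _, ⟨gm, hgS, rfl⟩, ?_, ?_⟩
    · rw [Subgroup.card_map_of_injective monoSub.subtype_injective, hS]; rfl
    · rintro _ ⟨u, hu, rfl⟩
      exact congrArg Subtype.val (hSc u hu)

end Cfsg.Agent.Spor.MonsterLocal
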