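import Cfsg.Agent.Lib.Spor.MonsterLocal.Main
import Cfsg.Agent.Lib.Spor.MonsterLocal.ThreeClass
import Cfsg.Agent.Lib.Spor.CoLocal.Three

/-!
The centraliser of a non-central subgroup of order three of the joint centraliser, modulo it, is of
Thompson type.
-/

set_option autoImplicit false
set_option maxRecDepth 100000

namespace Cfsg.Agent.Spor.MonsterLocal

open Cfsg Cfsg.Agent.Spor.MonsterFusion
open Co1Seven (pr)
open scoped Pointwise

local notation "Zv" => GolayPt → ℤ
set_option quotPrecheck false in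
local notation "Lv" => ↥leechLattice

theorem stab_three {a : Cfsg.Spor.Co1} (ha : a ∈ classStab1 (e8 none)) (h3 : orderOf a = 3)
    (O : CoLocal.threeDat.Ok) :
    (∃ t ∈ classStab1 (e8 none), t * a * t⁻¹ = O.beta) ∨
      ∃ P : Subgroup Cfsg.Spor.Co1, P ≤ classStab1 (e8 none) ∧ a ∈ P ∧ Nat.card P = 27 ∧
        ∀ u ∈ P, u * a = a * u := by
  haveI := co0_finite
  haveI : Fact (Nat.Prime 3) := ⟨Nat.prime_three⟩
  haveI : Fact (Nat.Prime 2) := ⟨Nat.prime_two⟩
  obtain ⟨g0, hg0, rfl⟩ := ha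
  rw [SetLike.mem_coe, classStab_e8] at hg0
  obtain ⟨m, hm⟩ := negation_exists
  have hmc := negation_mem_center hm
  have hmono : Subgroup.center ↥Co0 ≤ monoSub := by
    rw [← classStab_e8]; exact center_le_classStab _
  have hcz : g0 ^ 3 ∈ Subgroup.center ↥Co0 := (QuotientGroup.eq_one_iff _).1 (by
    show pr (g0 ^ 3) = 1
    rw [map_pow, ← h3]; exact pow_orderOf_eq_one _)
  obtain ⟨g, hg, hpr, hg3⟩ : ∃ g ∈ monoSub, pr g = pr g0 ∧ g ^ 3 = 1 := by
    rcases center_cases hm hcz with e | e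
    · exact ⟨g0, hg0, rfl, e⟩
    · refine ⟨g0 * m, mul_mem hg0 (hmono hmc), ?_, ?_⟩
      · rw [map_mul, show pr m = 1 from (QuotientGroup.eq_one_iff m).2 hmc, mul_one]
      · rw [(show Commute g0 m from Subgroup.mem_center_iff.1 hmc g0).mul_pow, e, pow_succ, sq]
        refine co0_ext fun v => ?_
        simp only [mul_smul, one_smul, hm, neg_neg]
  have hgne : g ≠ 1 := fun e => by
    have h1 : pr g0 = 1 := by rw [← hpr, e, map_one]
    rw [show QuotientGroup.mk' (Subgroup.center ↥Co0) g0 = 1 from h1, orderOf_one] at h3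
    omega
  have hgo : orderOf g = 3 := orderOf_eq_prime hg3 hgne
  rcases three_alt O hg hgo with ⟨h, hh, e⟩ | ⟨S, hS, hgS, hSc, hcent⟩
  · left
    refine ⟨pr h, ⟨h, by rw [SetLike.mem_coe, classStab_e8]; exact hh, rfl⟩, ?_⟩
    rw [CoLocal.Dat.Ok.beta, ← e, map_mul, map_mul, map_inv, hpr]
    rfl
  · right
    refine ⟨S.map pr, ?_, ⟨g, hgS, hpr⟩, ?_, ?_⟩
    · rintro _ ⟨u, hu, rfl⟩
      exact ⟨u, by rw [SetLike.mem_coe, classStab_e8]; exact hS hu, rfl⟩
    · let f : S →* Cfsg.Spor.Co1 := pr.comp S.subtype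
      have hf : Function.Injective f := (injective_iff_map_eq_one f).2 fun u hu => by
        have hz : (u : ↥Co0) ∈ Subgroup.center ↥Co0 := (QuotientGroup.eq_one_iff _).1 hu
        have h2 : IsPGroup 2 (Subgroup.center ↥Co0) := IsPGroup.of_card (n := 1) (by rw [card_center, pow_one])
        have h3' : IsPGroup 3 S := IsPGroup.of_card (n := 3) (by rw [hSc]; rfl)
        exact Subtype.ext (pgroup_meet Nat.prime_three rfl h3' h2 u.2 hz)
      rw [← hSc]
      refine Nat.card_congr (Equiv.symm (Equiv.ofBijective (fun u : S => (⟨pr u, u, u.2, rfl⟩ : S.map pr)) ⟨?_, ?_⟩))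
      · exact fun u v e => hf (congrArg Subtype.val e)
      · rintro ⟨_, u, hu, rfl⟩; exact ⟨⟨u, hu⟩, rfl⟩
    · rintro _ ⟨u, hu, rfl⟩
      show pr u * pr g0 = pr g0 * pr u
      rw [← hpr, ← map_mul, ← map_mul, hcent u hu]

variable {G : Type*} [Group G] [Finite G] {z s : G} {Q : Subgroup (Subgroup.centralizer ({z} : Set G))} [Q.Normal]

theorem three_thompson_type (hM : IsOfMonsterType z Q)
    (hsQ : ∃ hsc : s ∈ Subgroup.centralizer ({z} : Set G), (⟨s, hsc⟩ : Subgroup.centralizer ({z} : Set G)) ∈ Q)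
    (hs : IsConj z s) (hs1 : s ≠ z) {Y : Subgroup G} (hY : Y ≤ Subgroup.centralizer ({z, s} : Set G))
    (hY3 : Nat.card Y = 3)
    (hnc : ∀ P : Sylow 3 ↥(Subgroup.centralizer ({z, s} : Set G)),
      ¬ Y.subgroupOf (Subgroup.centralizer ({z, s} : Set G)) ≤
        (Subgroup.center ↥(P : Subgroup ↥(Subgroup.centralizer ({z, s} : Set G)))).map
          (P : Subgroup ↥(Subgroup.centralizer ({z, s} : Set G))).subtype)
    [hn : (Y.subgroupOf (Subgroup.centralizer (Y : Set G))).Normal] :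
    IsOfThompsonType (↥(Subgroup.centralizer (Y : Set G)) ⧸ Y.subgroupOf (Subgroup.centralizer (Y : Set G))) := by
  classical
  haveI := co0_finite
  haveI : Fact (Nat.Prime 3) := ⟨Nat.prime_three⟩
  obtain ⟨e, ψ, x0, J⟩ := exists_joint hM hsQ hs hs1
  haveI : IsCyclic Y := isCyclic_of_prime_card hY3
  obtain ⟨⟨b0, hb0⟩, hgen⟩ := IsCyclic.exists_generator (α := Y)
  have hb0o : orderOf b0 = 3 := by
    rw [← hY3, ← orderOf_eq_card_of_forall_mem_zpowers hgen, ← Subgroup.orderOf_coe]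
  set c0 : ↥(Subgroup.centralizer ({z, s} : Set G)) := ⟨b0, hY hb0⟩ with hc0
  have hc03 : c0 ^ 3 = 1 := Subtype.ext (by
    rw [SubmonoidClass.coe_pow, OneMemClass.coe_one, ← hb0o]; exact pow_orderOf_eq_one b0)
  have hc0o : orderOf c0 = 3 := by rw [← Subgroup.orderOf_coe]; exact hb0o
  set ρ := (proj e).comp (jIncl z s) with hρ
  have hρ0 : ρ c0 ≠ 1 := fun h => by
    have h1 := pgroup_meet (p := 3) Nat.prime_three rfl (H := Subgroup.zpowers c0)
      (IsPGroup.of_card (n := 1) (by rw [Nat.card_zpowers, hc0o, pow_one])) J.ker (Subgroup.mem_zpowers c0) h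
    rw [h1, orderOf_one] at hc0o
    omega
  have hρo : orderOf (ρ c0) = 3 := orderOf_eq_prime (by rw [← map_pow, hc03, map_one]) hρ0
  have h0 : ρ c0 ∈ classStab1 (e8 none) := by rw [← J.range]; exact ⟨c0, rfl⟩
  have hYz : Y = Subgroup.zpowers b0 := by
    refine (Subgroup.eq_of_le_of_card_ge (Subgroup.zpowers_le.2 hb0) ?_).symm
    rw [hY3, Nat.card_zpowers]
    exact le_of_eq hb0o.symm
  set O := CoLocal.three_ok'
  rcases stab_three h0 hρo O with ⟨t, ht, hc⟩ | ⟨P, hP, haP, hPc, hcent⟩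
  · obtain ⟨e', ψ', b, F, hb⟩ := J.frame O c0 hc03 ht (j := 1) (by rw [zpow_one]; exact hc)
    have hYb : Y = Subgroup.zpowers (b : G) := by rw [hb]; exact hYz
    obtain ⟨z', R, hR, hset, ⟨iso⟩⟩ := F.setting CoLocal.three_group Y hYb
    obtain ⟨iso'⟩ := CoLocal.three_iso
    exact ⟨z', R, hR, hset, ⟨iso.trans iso'⟩⟩
  · exfalso
    obtain ⟨S, hcS, hSc, hScent⟩ := central_lift ρ J.ker (p := 3) (m := 3) Nat.prime_three rfl
      (P := P) (by rw [hρ, J.range]; exact hP) (by rw [hPc]; rfl) ⟨1, by rw [pow_one]; exact hc03⟩ haP hcent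
    have hfH : (2048 * 244823040 : ℕ).factorization 3 = 3 := by
      rw [show (2048 * 244823040 : ℕ) = 3 ^ 3 * (2048 * 9067520) by norm_num,
        Nat.factorization_mul (by norm_num) (by norm_num), Finsupp.add_apply,
        Nat.Prime.factorization_pow Nat.prime_three, Finsupp.single_eq_same,
        Nat.factorization_eq_zero_of_not_dvd (by norm_num)]
    let PS := Sylow.ofCard S (p := 3) (by rw [hSc, J.card_fac Nat.prime_three rfl, hfH])
    refine hnc PS fun y hy => ?_
    rw [Subgroup.mem_subgroupOf, hYz] at hy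
    obtain ⟨k, hk⟩ := Subgroup.mem_zpowers_iff.1 hy
    have hy' : y = c0 ^ k := Subtype.ext (by rw [SubgroupClass.coe_zpow]; exact hk.symm)
    rw [hy']
    refine zpow_mem ?_ k
    refine ⟨⟨c0, hcS⟩, ?_, rfl⟩
    rw [SetLike.mem_coe, Subgroup.mem_center_iff]
    exact fun u => Subtype.ext (hScent u u.2)

end Cfsg.Agent.Spor.MonsterLocal
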